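import Mathlib
import Groth.Agent.UnivClosed.Generic
import Groth.Agent.UnivClosed.Basic

/-!
# Quasi-finite morphisms of finite type have boundedly many points in their geometric fibres
-/

set_option linter.style.haveILetI false

universe u

namespace Groth.Agent.FibBound

open CategoryTheory CategoryTheory.Limits AlgebraicGeometry TensorProduct

variable {X Y : Scheme.{u}}

/-- The fibres of `f` over field-valued points have at most `d` points. -/
def Bdd (f : X ⟶ Y) (d : ℕ) : Prop :=
  ∀ (K : Type u) [Field K] (k : Spec (CommRingCat.of K) ⟶ Y),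
    ENat.card ↥(pullback f k) ≤ d

lemma bdd_comp_of_isOpenImmersion {W : Scheme.{u}} (o : W ⟶ X) [IsOpenImmersion o] (f : X ⟶ Y) {d : ℕ}
    (h : Bdd f d) : Bdd (o ≫ f) d := by
  intro K _ k
  let m : pullback (o ≫ f) k ⟶ pullback f k :=
    pullback.map _ _ _ _ o (𝟙 _) (𝟙 _) (by simp) (by simp)
  haveI : IsOpenImmersion m := inferInstance
  exact (ENat.card_le_card_of_injective m.isOpenEmbedding.injective).trans (h K k)

lemma isArtinian_card_le (K R : Type u) [Field K] [CommRing R] [Algebra K R] [Module.Finite K R] :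
    ENat.card (PrimeSpectrum R) ≤ (Module.finrank K R : ℕ∞) := by
  haveI : IsArtinianRing R := IsArtinianRing.of_finite K R
  haveI : Finite (PrimeSpectrum R) := inferInstance
  letI : Fintype (PrimeSpectrum R) := Fintype.ofFinite _
  rw [ENat.card_eq_coe_fintype_card, Nat.cast_le, IsArtinianRing.finrank_eq_sum_primeSpectrum R K,
    ← Finset.card_univ, Finset.card_eq_sum_ones]
  refine Finset.sum_le_sum fun p _ => ?_
  haveI : Module.Finite K (Localization.AtPrime p.asIdeal) :=
    Module.Finite.of_surjective (Algebra.algHom K R (Localization.AtPrime p.asIdeal)).toLinearMap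
      (IsArtinianRing.localization_surjective p.asIdeal.primeCompl (Localization.AtPrime p.asIdeal))
  exact Module.finrank_pos

lemma isIso_map_mono {A B C D : Scheme.{u}} (a : A ⟶ C) (b : B ⟶ C) (m : C ⟶ D) [Mono m] :
    IsIso (pullback.map a b (a ≫ m) (b ≫ m) (𝟙 _) (𝟙 _) m (by simp) (by simp)) := by
  refine ⟨pullback.lift (pullback.fst _ _) (pullback.snd _ _) ?_, ?_, ?_⟩
  · rw [← cancel_mono m, Category.assoc, Category.assoc]
    exact pullback.condition
  · apply pullback.hom_ext
    · rw [Category.assoc, pullback.lift_fst, UnivClosed.map_fst, Category.comp_id, Category.id_comp]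
    · rw [Category.assoc, pullback.lift_snd, UnivClosed.map_snd, Category.comp_id, Category.id_comp]
  · apply pullback.hom_ext
    · rw [Category.assoc, UnivClosed.map_fst, Category.comp_id, Category.id_comp]
      exact pullback.lift_fst _ _ _
    · rw [Category.assoc, UnivClosed.map_snd, Category.comp_id, Category.id_comp]
      exact pullback.lift_snd _ _ _

lemma awayMap_comp {A B : Type u} [CommRing A] [CommRing B] [Algebra A B] (S : Subalgebra A B) (r : S) :
    CommRingCat.ofHom (algebraMap A S) ≫ CommRingCat.ofHom (algebraMap S (Localization.Away r)) ≫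
        CommRingCat.ofHom (Localization.awayMap S.val.toRingHom r) =
      CommRingCat.ofHom (algebraMap A B) ≫ CommRingCat.ofHom (algebraMap B (Localization.Away r.1)) := by
  refine CommRingCat.hom_ext (RingHom.ext fun a => ?_)
  change Localization.awayMap S.val.toRingHom r (algebraMap S _ (algebraMap A S a)) = _
  exact IsLocalization.map_eq (S := Localization.Away r) _ _

/-- A finite algebra over an affine open has bounded fibres. -/
lemma exists_bdd_of_finite {U : Y.Opens} (hU : IsAffineOpen U) (S : Type u) [CommRing S]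
    [Algebra Γ(Y, U) S] [Module.Finite Γ(Y, U) S] :
    ∃ d, Bdd (Spec.map (CommRingCat.ofHom (algebraMap Γ(Y, U) S)) ≫ hU.fromSpec) d := by
  obtain ⟨t, ht⟩ := (inferInstance : Module.Finite Γ(Y, U) S).fg_top
  refine ⟨t.card, fun K _ k => ?_⟩
  let g := Spec.map (CommRingCat.ofHom (algebraMap Γ(Y, U) S)) ≫ hU.fromSpec
  by_cases hk : k (IsLocalRing.closedPoint K) ∈ U
  · obtain ⟨r, hr⟩ := UnivClosed.exists_spec_map_eq (O := CommRingCat.of K) hU k hk
    letI := r.hom.toAlgebra
    subst hr
    let a := Spec.map (CommRingCat.ofHom (algebraMap Γ(Y, U) S))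
    let j : pullback a (Spec.map r) ⟶ pullback g (Spec.map r ≫ hU.fromSpec) :=
      pullback.map _ _ _ _ (𝟙 _) (𝟙 _) hU.fromSpec (by simp [g, a]) (by simp)
    have hj : IsIso j := isIso_map_mono a (Spec.map r) hU.fromSpec
    let e : pullback g (Spec.map r ≫ hU.fromSpec) ≅ Spec (CommRingCat.of (S ⊗[Γ(Y, U)] K)) :=
      (asIso j).symm ≪≫ pullbackSpecIso Γ(Y, U) S K
    haveI : Module.Finite K (K ⊗[Γ(Y, U)] S) := inferInstance
    refine (ENat.card_le_card_of_injective (f := e.hom) (e.hom.homeomorph).injective).trans ?_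
    refine le_of_eq_of_le ?_ ((isArtinian_card_le K (K ⊗[Γ(Y, U)] S)).trans ?_)
    · exact ENat.card_congr (PrimeSpectrum.comapEquiv (Algebra.TensorProduct.comm Γ(Y, U) S K).toRingEquiv).toEquiv
    · rw [Nat.cast_le]
      classical
      have hspan : Submodule.span K
          ((t.image fun s => (1 : K) ⊗ₜ[Γ(Y, U)] s : Finset (K ⊗[Γ(Y, U)] S)) : Set (K ⊗[Γ(Y, U)] S)) = ⊤ := by
        rw [Finset.coe_image]
        refine Eq.trans ?_ (Submodule.baseChange_top (R := Γ(Y, U)) (A := K) (M := S))
        rw [← ht, Submodule.baseChange_span]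
        rfl
      have h2 := finrank_span_finset_le_card (R := K) (t.image fun s => (1 : K) ⊗ₜ[Γ(Y, U)] s)
      rw [Set.finrank, hspan, finrank_top] at h2
      exact h2.trans Finset.card_image_le
  · haveI : IsEmpty ↥(pullback g k) := by
      refine ⟨fun z => hk ?_⟩
      have h1 : k (pullback.snd g k z) = g (pullback.fst g k z) := by
        rw [← Scheme.Hom.comp_apply, ← pullback.condition]
        rfl
      rw [show IsLocalRing.closedPoint K = pullback.snd g k z from Subsingleton.elim (α := PrimeSpectrum K) _ _, h1]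
      exact hU.range_fromSpec.le (Set.mem_range_self _)
    rw [show ENat.card ↥(pullback g k) = 0 from (ENat.card_eq_zero_iff_empty _).mpr this]
    exact zero_le

/-- Locally, a quasi-finite morphism has bounded fibres. -/
lemma exists_bdd_nhd (f : X ⟶ Y) [LocallyQuasiFinite f] [LocallyOfFiniteType f] (x : X) :
    ∃ (W : X.Opens) (d : ℕ), x ∈ W ∧ Bdd (W.ι ≫ f) d := by
  obtain ⟨U, hU, hxU, -⟩ := exists_isAffineOpen_mem_and_subset (U := (⊤ : Y.Opens)) (x := f x) trivial
  obtain ⟨V, hV, hxV, hVU⟩ := exists_isAffineOpen_mem_and_subset (show x ∈ f ⁻¹ᵁ U from hxU)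
  letI := (f.appLE U V hVU).hom.toAlgebra
  haveI : Algebra.FiniteType Γ(Y, U) Γ(X, V) := f.finiteType_appLE hU hV hVU
  let q := (hV.primeIdealOf ⟨x, hxV⟩).asIdeal
  haveI : Algebra.QuasiFiniteAt Γ(Y, U) q := (f.quasiFiniteAt x).quasiFiniteAt hV hU hVU hxV
  obtain ⟨S, hS, r, hr, hbij⟩ :=
    Algebra.QuasiFiniteAt.exists_fg_and_exists_notMem_and_awayMap_bijective (R := Γ(Y, U)) q
  haveI : Module.Finite Γ(Y, U) S := ⟨(Submodule.fg_top _).mpr hS⟩
  obtain ⟨d, hd⟩ := exists_bdd_of_finite hU S
  let o : Spec (CommRingCat.of (Localization.Away r.1)) ⟶ X :=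
    Spec.map (CommRingCat.ofHom (algebraMap Γ(X, V) (Localization.Away r.1))) ≫ hV.fromSpec
  haveI : IsOpenImmersion (Spec.map (CommRingCat.ofHom (algebraMap Γ(X, V) (Localization.Away r.1)))) :=
    IsOpenImmersion.of_isLocalization r.1
  haveI : IsOpenImmersion o := inferInstance
  let eS := CommRingCat.ofHom (Localization.awayMap S.val.toRingHom r)
  haveI : IsIso eS := (ConcreteCategory.isIso_iff_bijective _).mpr hbij
  haveI : IsOpenImmersion (Spec.map (CommRingCat.ofHom (algebraMap S (Localization.Away r)))) :=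
    IsOpenImmersion.of_isLocalization r
  have hfac : o ≫ f = (Spec.map eS ≫ Spec.map (CommRingCat.ofHom (algebraMap S (Localization.Away r)))) ≫
      Spec.map (CommRingCat.ofHom (algebraMap Γ(Y, U) S)) ≫ hU.fromSpec := by
    change (_ ≫ hV.fromSpec) ≫ f = _
    rw [Category.assoc, ← IsAffineOpen.SpecMap_appLE_fromSpec f hU hV hVU, Category.assoc,
      ← Spec.map_comp_assoc, ← Spec.map_comp_assoc, ← Spec.map_comp_assoc]
    exact congrArg (fun g => Spec.map g ≫ hU.fromSpec) (awayMap_comp S r).symm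
  haveI : IsOpenImmersion (Spec.map eS) := inferInstance
  have hoi : IsOpenImmersion (Spec.map eS ≫ Spec.map (CommRingCat.ofHom (algebraMap S (Localization.Away r)))) :=
    MorphismProperty.comp_mem _ _ _ ‹_› ‹_›
  have hb : Bdd (o ≫ f) d := hfac ▸ @bdd_comp_of_isOpenImmersion _ _ _ _ hoi _ _ hd
  have hdis := (Ideal.disjoint_powers_iff_notMem r.1 (hV.primeIdealOf ⟨x, hxV⟩).isPrime.isRadical).mpr hr
  have hpr : (q.map (algebraMap Γ(X, V) (Localization.Away r.1))).IsPrime :=
    IsLocalization.isPrime_of_isPrime_disjoint (Submonoid.powers r.1) _ q inferInstance hdis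
  refine ⟨o.opensRange, d, ?_, ?_⟩
  · refine ⟨(⟨_, hpr⟩ : PrimeSpectrum _), ?_⟩
    rw [Scheme.Hom.comp_apply]
    have : Spec.map (CommRingCat.ofHom (algebraMap Γ(X, V) (Localization.Away r.1)))
        ⟨_, hpr⟩ = hV.primeIdealOf ⟨x, hxV⟩ :=
      PrimeSpectrum.ext (IsLocalization.comap_map_of_isPrime_disjoint (Submonoid.powers r.1) _ inferInstance hdis)
    rw [this]
    exact hV.fromSpec_primeIdealOf _
  · have : o.opensRange.ι ≫ f = o.isoOpensRange.inv ≫ o ≫ f := by
      rw [Scheme.Hom.isoOpensRange_inv_comp_assoc]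
    rw [this]
    exact bdd_comp_of_isOpenImmersion _ _ hb

/-- A quasi-finite morphism from a quasi-compact scheme has bounded fibres. -/
theorem exists_bdd [CompactSpace X] (f : X ⟶ Y) [LocallyQuasiFinite f] [LocallyOfFiniteType f] :
    ∃ d, Bdd f d := by
  classical
  choose W d hxW hW using exists_bdd_nhd f
  obtain ⟨t, ht⟩ := isCompact_univ.elim_finite_subcover (fun x => (W x : Set X)) (fun x => (W x).isOpen)
    (fun x _ => Set.mem_iUnion.mpr ⟨x, hxW x⟩)
  refine ⟨∑ x ∈ t, d x, fun K _ k => ?_⟩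
  let m : ∀ x : X, pullback ((W x).ι ≫ f) k ⟶ pullback f k := fun x =>
    pullback.map _ _ _ _ (W x).ι (𝟙 _) (𝟙 _) (by simp) (by simp)
  have hcov : (Set.univ : Set ↥(pullback f k)) ⊆ ⋃ x ∈ t, Set.range (m x) := by
    intro z _
    obtain ⟨x, hxt, hzx⟩ := Set.mem_iUnion₂.mp (ht (Set.mem_univ (pullback.fst f k z)))
    refine Set.mem_iUnion₂.mpr ⟨x, hxt, ?_⟩
    rw [Scheme.Pullback.range_map]
    exact ⟨by simpa using hzx, by simp⟩
  rw [← Set.encard_univ]
  refine (Set.encard_le_encard hcov).trans ((Finset.set_encard_biUnion_le _ _).trans ?_)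
  rw [Nat.cast_sum]
  refine Finset.sum_le_sum fun x _ => ?_
  rw [← Set.image_univ]
  refine (Set.encard_image_le _ _).trans ?_
  rw [Set.encard_univ]
  exact hW x K k

end Groth.Agent.FibBound
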